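import Mathlib.AlgebraicGeometry.Morphisms.Flat
import Mathlib.AlgebraicGeometry.Morphisms.QuasiSeparated
import Mathlib.AlgebraicGeometry.Morphisms.Descent

/-!
# The largest open over which a descending property holds, and flat open base change
-/

set_option autoImplicit false

universe u

open CategoryTheory CategoryTheory.Limits AlgebraicGeometry

namespace Groth.Agent.MaxOpen

variable (P : MorphismProperty Scheme.{u}) [P.IsStableUnderBaseChange]

lemma restrict_iff {X Y : Scheme.{u}} (f : X ⟶ Y) (W : Y.Opens) :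
    P (f ∣_ W) ↔ P (pullback.snd f W.ι) := by
  rw [← (isPullback_morphismRestrict f W).flip.isoPullback_hom_snd]
  exact P.cancel_left_of_respectsIso _ _

lemma restrict_baseChange {X X' Y Y' : Scheme.{u}} {a : X' ⟶ X} {f' : X' ⟶ Y'} {f : X ⟶ Y}
    {g : Y' ⟶ Y} (h : IsPullback a f' f g) {W : Y.Opens} (hW : P (f ∣_ W)) :
    P (f' ∣_ g ⁻¹ᵁ W) := by
  have sq := (isPullback_morphismRestrict f' (g ⁻¹ᵁ W)).flip.paste_horiz h
  have hι : (g ∣_ W) ≫ W.ι = (g ⁻¹ᵁ W).ι ≫ g := morphismRestrict_ι g W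
  rw [show (g ⁻¹ᵁ W).ι ≫ g = (g ∣_ W) ≫ W.ι from hι.symm] at sq
  exact P.of_isPullback (IsPullback.of_right' sq (IsPullback.of_hasPullback f W.ι))
    ((restrict_iff P f W).1 hW)

variable [IsZariskiLocalAtTarget P] [P.DescendsAlong (@Flat ⊓ @Surjective ⊓ @QuasiCompact)]

lemma image_subset {X X' Y Y' : Scheme.{u}} {a : X' ⟶ X} {f' : X' ⟶ Y'} {f : X ⟶ Y}
    {g : Y' ⟶ Y} (h : IsPullback a f' f g) [Flat g] (hg : IsOpenMap g) {W : Y.Opens}
    (hmax : ∀ W₀ : Y.Opens, P (f ∣_ W₀) → W₀ ≤ W) {W₁ : Y'.Opens} (hW₁ : P (f' ∣_ W₁)) :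
    g '' W₁ ⊆ W := by
  intro y hy
  obtain ⟨_, ⟨(V : Y.Opens), hV, rfl⟩, hyV, hVsub⟩ := Y.isBasis_affineOpens.exists_subset_of_mem_open hy
    (hg _ W₁.2)
  refine hmax V ?_ hyV
  -- finitely many affine opens of `W₁` whose images cover `V`
  obtain ⟨I, hI⟩ := hV.isCompact.elim_finite_subcover
    (fun O : {O : Y'.affineOpens // (O.1 : Set Y') ⊆ (W₁ : Set Y') ∩ g ⁻¹' V} => g '' (O.1.1 : Set Y'))
    (fun O => hg _ O.1.1.2) (fun v hv => by
      obtain ⟨w, hw, rfl⟩ := hVsub hv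
      obtain ⟨_, ⟨(O : Y'.Opens), hO, rfl⟩, hwO, hOsub⟩ := Y'.isBasis_affineOpens.exists_subset_of_mem_open
        (show w ∈ (W₁ : Set Y') ∩ g ⁻¹' V from ⟨hw, hv⟩) (W₁.2.inter (V.2.preimage g.continuous))
      exact Set.mem_iUnion.2 ⟨⟨⟨O, hO⟩, hOsub⟩, w, hwO, rfl⟩)
  let U : Y'.Opens := ⨆ O ∈ I, O.1.1
  have hUc : IsCompact (U : Set Y') := by
    simp only [U, TopologicalSpace.Opens.coe_iSup]
    exact I.isCompact_biUnion fun O _ => O.1.2.isCompact
  have hUW : U ≤ W₁ := iSup₂_le fun O _ => fun w hw => (O.2 hw).1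
  have hUV : U ≤ g ⁻¹ᵁ V := iSup₂_le fun O _ => fun w hw => (O.2 hw).2
  let b : U.toScheme ⟶ V.toScheme := g.resLE V U hUV
  have hb : b ≫ V.ι = U.ι ≫ g := Scheme.Hom.resLE_comp_ι g hUV
  have : CompactSpace U.toScheme := isCompact_iff_compactSpace.1 hUc
  have : IsAffine V.toScheme := hV
  have : QuasiCompact b := inferInstance
  have : Flat b := MorphismProperty.of_postcomp (W := @Flat) (W' := @IsOpenImmersion) b V.ι
    inferInstance (hb ▸ inferInstance)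
  have : Surjective b := ⟨fun v => by
    obtain ⟨O, hO, w, hw, hwv⟩ : ∃ O ∈ I, ∃ w ∈ (O.1.1 : Set Y'), g w = V.ι v := by
      obtain ⟨O, hO, w, hw, hwv⟩ := Set.mem_iUnion₂.1 (hI (show (V.ι v) ∈ (V : Set Y) from v.2))
      exact ⟨O, hO, w, hw, hwv⟩
    have hwU : w ∈ U := (le_iSup₂_of_le (f := fun O _ => O.1.1) O hO le_rfl) hw
    refine ⟨⟨w, hwU⟩, V.ι.isOpenEmbedding.injective ?_⟩
    rw [← Scheme.Hom.comp_apply, hb, Scheme.Hom.comp_apply]
    exact hwv⟩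
  refine (restrict_iff P f V).2 ?_
  refine MorphismProperty.of_pullback_snd_of_descendsAlong (P := P)
    (Q := @Flat ⊓ @Surjective ⊓ @QuasiCompact) (g := b) ⟨⟨‹Flat b›, ‹Surjective b›⟩, ‹QuasiCompact b›⟩ ?_
  have h1 : P (pullback.snd f' U.ι) := by
    have hfac : U.ι = Y'.homOfLE hUW ≫ W₁.ι := (Y'.homOfLE_ι hUW).symm
    rw [hfac, ← P.cancel_left_of_respectsIso (pullbackLeftPullbackSndIso f' W₁.ι (Y'.homOfLE hUW)).hom,
      pullbackLeftPullbackSndIso_hom_snd]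
    exact P.pullback_snd _ _ ((restrict_iff P f' W₁).1 hW₁)
  have s1 := (IsPullback.of_hasPullback f' U.ι).paste_horiz h
  have s2 := (IsPullback.of_hasPullback (pullback.snd f V.ι) b).paste_horiz
    (IsPullback.of_hasPullback f V.ι)
  rw [hb] at s2
  rw [← IsPullback.isoIsPullback_hom_snd _ _ s2 s1, P.cancel_left_of_respectsIso]
  exact h1

end Groth.Agent.MaxOpen
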